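import Cfsg.Agent.Lib.ZassPSL.Main
import Mathlib.GroupTheory.Sylow
import Mathlib.GroupTheory.Transfer
import Mathlib.GroupTheory.PGroup

/-!
# Zassenhaus recognition from the conjugation action on Sylow subgroups

A simple group with `q + 1` self-centralizing abelian TI Sylow `p`-subgroups of order `q` and two-point
stabilizers of order `(q - 1) / 2` inverted by a swapping involution is `PSL(2, q)`.
-/

set_option autoImplicit false

namespace CfsgLib.DihedralEight

open MulAction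

variable {G : Type*} [Group G] [Finite G] [IsSimpleGroup G]

/-- In a simple group a Sylow subgroup is not central in its normalizer, unless trivial or everything. -/
theorem not_normalizer_le_centralizer {p : ℕ} [Fact p.Prime] (P : Sylow p G)
    (h1 : (P : Subgroup G) ≠ ⊥) (h2 : (P : Subgroup G) ≠ ⊤) :
    ¬ Subgroup.normalizer ((P : Subgroup G) : Set G) ≤ Subgroup.centralizer ((P : Subgroup G) : Set G) := by
  intro hP
  have hc := MonoidHom.ker_transferSylow_isComplement' P hP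
  rcases IsSimpleGroup.eq_bot_or_eq_top_of_normal (MonoidHom.transferSylow P hP).ker inferInstance with h | h
  · rw [h, Subgroup.isComplement'_bot_left] at hc
    exact h2 hc
  · rw [h, Subgroup.isComplement'_top_left] at hc
    exact h1 hc

omit [IsSimpleGroup G] in
/-- A fixed point free involutory conjugation inverts the subgroup on which it acts. -/
theorem invert_of_fpf (P : Subgroup G) (m : G) (hm : m * m = 1)
    (hn : ∀ x ∈ P, m * x * m⁻¹ ∈ P) (hf : ∀ x ∈ P, m * x * m⁻¹ = x → x = 1) :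
    ∀ x ∈ P, m * x * m⁻¹ = x⁻¹ := by
  let F : P → P := fun x => ⟨(x : G)⁻¹ * (m * x * m⁻¹), P.mul_mem (P.inv_mem x.2) (hn x x.2)⟩
  have hinj : Function.Injective F := by
    intro x y h
    have h' : (x : G)⁻¹ * (m * x * m⁻¹) = (y : G)⁻¹ * (m * y * m⁻¹) := congrArg Subtype.val h
    apply Subtype.ext
    have hw : m * ((y : G) * (x : G)⁻¹) * m⁻¹ = (y : G) * (x : G)⁻¹ := by
      calc m * ((y : G) * (x : G)⁻¹) * m⁻¹ = (y : G) * ((y : G)⁻¹ * (m * y * m⁻¹)) * (m * x * m⁻¹)⁻¹ := by group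
        _ = (y : G) * ((x : G)⁻¹ * (m * x * m⁻¹)) * (m * x * m⁻¹)⁻¹ := by rw [h']
        _ = (y : G) * (x : G)⁻¹ := by group
    exact (mul_inv_eq_one.mp (hf _ (P.mul_mem y.2 (P.inv_mem x.2)) hw)).symm
  intro x hx
  obtain ⟨y, hy⟩ := Finite.surjective_of_injective hinj ⟨x, hx⟩
  have hy' : x = (y : G)⁻¹ * (m * y * m⁻¹) := (congrArg Subtype.val hy).symm
  calc m * x * m⁻¹ = (m * y * m⁻¹)⁻¹ * ((m * m) * y * (m * m)⁻¹) := by rw [hy']; group
    _ = (m * y * m⁻¹)⁻¹ * y := by rw [hm, one_mul, inv_one, mul_one]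
    _ = x⁻¹ := by rw [hy']; group

/-- The recognition theorem. -/
theorem exists_psl (p f d : ℕ) [Fact p.Prime]
    (hcard : ∀ P : Sylow p G, Nat.card (P : Subgroup G) = p ^ f)
    (hcomm : ∀ P : Sylow p G, ∀ a ∈ (P : Subgroup G), ∀ b ∈ (P : Subgroup G), a * b = b * a)
    (hcent : ∀ P : Sylow p G, ∀ x ∈ (P : Subgroup G), x ≠ 1 → Subgroup.centralizer ({x} : Set G) ≤ P)
    (hn : Nat.card (Sylow p G) = p ^ f + 1) (hG : Nat.card G = (p ^ f + 1) * (p ^ f * d)) (hd1 : 2 ≤ d)
    (hd : 2 * d + 1 = p ^ f)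
    (hswap : ∀ (P : Sylow p G) (M : Subgroup G) (g : G), Nat.card M = d →
      M ≤ Subgroup.normalizer ((P : Subgroup G) : Set G) →
      (∀ m ∈ M, ∀ x ∈ (P : Subgroup G), m * x * m⁻¹ = x → x ≠ 1 → m = 1) →
      g ∉ M → g * g ∈ M → (∀ m ∈ M, g * m * g⁻¹ ∈ M) →
      ∃ n ∈ M, (g * n) * (g * n) = 1 ∧ ∀ m ∈ M, (g * n) * m * (g * n)⁻¹ = m⁻¹) :
    ∃ (F : Type) (_ : Field F) (_ : Fintype F), Fintype.card F = p ^ f ∧
      Nonempty (G ≃* Matrix.ProjectiveSpecialLinearGroup (Fin 2) F) := by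
  classical
  haveI : Fintype (Sylow p G) := Fintype.ofFinite _
  have hq : 5 ≤ p ^ f := by omega
  -- stabilizers
  have hstab : ∀ (g : G) (Q : Sylow p G), g • Q = Q ↔ g ∈ Subgroup.normalizer ((Q : Subgroup G) : Set G) := by
    intro g Q
    exact SetLike.ext_iff.mp (Sylow.stabilizer_eq_normalizer Q) g
  have hfix : ∀ (P Q : Sylow p G), ∀ x ∈ (P : Subgroup G), x ≠ 1 → x • Q = Q → Q = P := by
    intro P Q x hx hx1 hxQ
    have hp : IsPGroup p (Subgroup.zpowers x) := P.2.to_le (Subgroup.zpowers_le.mpr hx)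
    have h := hp.inf_normalizer_sylow Q
    have hxQ' : x ∈ (Q : Subgroup G) := by
      have h' : x ∈ Subgroup.zpowers x ⊓ Subgroup.normalizer ((Q : Subgroup G) : Set G) :=
        ⟨Subgroup.mem_zpowers x, (hstab x Q).mp hxQ⟩
      exact (h.le h').2
    have hle : (Q : Subgroup G) ≤ P := fun y hy => hcent P x hx hx1
      (Subgroup.mem_centralizer_singleton_iff.mpr (hcomm Q y hy x hxQ'))
    exact Sylow.ext (Subgroup.eq_of_le_of_card_ge hle (by rw [hcard, hcard]))
  have hself : ∀ (P : Sylow p G), ∀ x ∈ (P : Subgroup G), x • P = P := fun P x hx =>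
    (hstab x P).mpr (Subgroup.le_normalizer hx)
  have hothers : ∀ P : Sylow p G, Fintype.card {Q : Sylow p G // Q ≠ P} = p ^ f := by
    intro P
    rw [Fintype.card_subtype_compl, Fintype.card_subtype_eq, ← Nat.card_eq_fintype_card, hn]
    omega
  have hreg : ∀ (P Q R : Sylow p G), Q ≠ P → R ≠ P →
      ∃! k : (P : Subgroup G), (k : G) • Q = R := by
    intro P Q R hQ hR
    have hne : ∀ k : (P : Subgroup G), (k : G) • Q ≠ P := fun k h =>
      hQ (MulAction.injective (k : G) (h.trans (hself P k k.2).symm))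
    let F : ↥(P : Subgroup G) → {S : Sylow p G // S ≠ P} := fun k => ⟨(k : G) • Q, hne k⟩
    have hinj : Function.Injective F := by
      intro k k' h
      have h' : ((k'⁻¹ * k : (P : Subgroup G)) : G) • Q = Q := by
        rw [Subgroup.coe_mul, Subgroup.coe_inv, mul_smul, inv_smul_eq_iff]
        exact congrArg Subtype.val h
      by_contra hkk
      exact hQ (hfix P Q _ (k'⁻¹ * k).2 (fun h1 => hkk (inv_mul_eq_one.mp (Subtype.ext h1)).symm) h')
    have hbij : Function.Bijective F := (Nat.bijective_iff_injective_and_card F).mpr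
      ⟨hinj, by rw [Nat.card_eq_fintype_card (α := {S : Sylow p G // S ≠ P}), hothers, hcard P]⟩
    obtain ⟨k, hk⟩ := hbij.2 ⟨R, hR⟩
    exact ⟨k, congrArg Subtype.val hk, fun k' hk' => hinj (by rw [hk]; exact Subtype.ext hk')⟩
  -- the Zassenhaus data
  have htwo : MulAction.IsMultiplyPretransitive G (Sylow p G) 2 := by
    rw [MulAction.is_two_pretransitive_iff]
    intro a b c e hab hce
    obtain ⟨g, hg⟩ := MulAction.exists_smul_eq G a c
    have hb : g • b ≠ c := fun h => hab (MulAction.injective g (hg.trans h.symm))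
    obtain ⟨k, hk, -⟩ := hreg c (g • b) e hb hce.symm
    exact ⟨(k : G) * g, by rw [mul_smul, hg, hself c k k.2], by rw [mul_smul, hk]⟩
  have hfpf : ∀ (g : G) (a b : Sylow p G), a ≠ b → g • a = a → g • b = b →
      ∀ x ∈ (a : Subgroup G), g * x * g⁻¹ = x → x ≠ 1 → g = 1 := by
    intro g a b hab ha hb x hx hgx hx1
    have hga : g ∈ (a : Subgroup G) :=
      hcent a x hx hx1 (Subgroup.mem_centralizer_singleton_iff.mpr (mul_inv_eq_iff_eq_mul.mp hgx))
    by_contra hg1
    exact hab (hfix a b g hga hg1 hb).symm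
  have hthree : ∀ g : G, ∀ a b c : Sylow p G, a ≠ b → b ≠ c → a ≠ c →
      g • a = a → g • b = b → g • c = c → g = 1 := by
    intro g a b c hab hbc hac ha hb hc
    obtain ⟨⟨x, hx⟩, hxc, huniq⟩ := hreg a b c hab.symm hac.symm
    have hx1 : x ≠ 1 := by rintro rfl; exact hbc (by simpa using hxc)
    have hmem : g * x * g⁻¹ ∈ (a : Subgroup G) :=
      (Subgroup.mem_normalizer_iff.mp ((hstab g a).mp ha) x).mp hx
    have := huniq ⟨g * x * g⁻¹, hmem⟩ (by
      show (g * x * g⁻¹) • b = c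
      rw [mul_smul, mul_smul, inv_smul_eq_iff.mpr hb.symm, show x • b = c from hxc, hc])
    exact hfpf g a b hab ha hb x hx (congrArg Subtype.val this) hx1
  obtain ⟨P⟩ : Nonempty (Sylow p G) := inferInstance
  obtain ⟨Q, hQP⟩ : ∃ Q : Sylow p G, Q ≠ P :=
    Fintype.exists_ne_of_one_lt_card (by rw [← Nat.card_eq_fintype_card, hn]; omega) P
  set M := stabilizer G P ⊓ stabilizer G Q with hM
  have hMcard : Nat.card M = d := by
    have h1 := Subgroup.card_mul_index (stabilizer G P)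
    rw [index_stabilizer_of_transitive, hn, hG, mul_comm (p ^ f + 1) (p ^ f * d)] at h1
    have h2 : Nat.card (stabilizer G P) = p ^ f * d := Nat.eq_of_mul_eq_mul_right (by omega) h1
    let E : ↥(P : Subgroup G) × M → stabilizer G P := fun km =>
      ⟨(km.1 : G) * km.2, (stabilizer G P).mul_mem (hself P _ km.1.2) km.2.2.1⟩
    have hEinj : Function.Injective E := by
      rintro ⟨k, m⟩ ⟨k', m'⟩ h
      have h' : (k : G) * m = (k' : G) * m' := congrArg Subtype.val h
      have hne : (k : G) • Q ≠ P := fun h0 =>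
        hQP (MulAction.injective (k : G) (h0.trans (hself P k k.2).symm))
      have hk : k = k' := (hreg P Q ((k : G) • Q) hQP hne).unique rfl (by
        have h3 := congrArg (fun w : G => w • Q) h'
        simp only [mul_smul, show (m : G) • Q = Q from m.2.2, show (m' : G) • Q = Q from m'.2.2] at h3
        exact h3.symm)
      subst hk
      exact Prod.ext rfl (Subtype.ext (mul_left_cancel h'))
    have hEsurj : Function.Surjective E := by
      rintro ⟨g, hg⟩
      obtain ⟨k, hk, -⟩ := hreg P Q (g • Q) hQP (fun h => hQP (MulAction.injective g (h.trans hg.symm)))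
      refine ⟨(k, ⟨(k : G)⁻¹ * g, ?_, ?_⟩), Subtype.ext (mul_inv_cancel_left _ _)⟩
      · exact (stabilizer G P).mul_mem ((stabilizer G P).inv_mem (hself P k k.2)) hg
      · show ((k : G)⁻¹ * g) • Q = Q
        rw [mul_smul, inv_smul_eq_iff]
        exact hk.symm
    rw [← Nat.card_eq_of_bijective E ⟨hEinj, hEsurj⟩, Nat.card_prod, hcard] at h2
    exact Nat.eq_of_mul_eq_mul_left (by omega) h2
  have hex : ∃ g : G, g ≠ 1 ∧ ∃ a b : Sylow p G, a ≠ b ∧ g • a = a ∧ g • b = b := by
    haveI : Nontrivial M := Finite.one_lt_card_iff_nontrivial.mp (by omega)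
    obtain ⟨m, hm⟩ := exists_ne (1 : M)
    exact ⟨m, fun h => hm (Subtype.ext h), P, Q, hQP.symm, m.2.1, m.2.2⟩
  have hfaith : FaithfulSMul G (Sylow p G) := by
    refine ⟨fun {g g'} h => ?_⟩
    have h3 : ∀ R : Sylow p G, (g'⁻¹ * g) • R = R := fun R => by rw [mul_smul, h R, inv_smul_smul]
    obtain ⟨R, hR⟩ : ∃ R : Sylow p G, R ∉ ({P, Q} : Finset (Sylow p G)) := by
      by_contra hall
      push Not at hall
      have := Finset.card_le_card (fun R (_ : R ∈ Finset.univ) => hall R)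
      rw [Finset.card_univ, ← Nat.card_eq_fintype_card, hn] at this
      have := this.trans Finset.card_le_two
      omega
    simp only [Finset.mem_insert, Finset.mem_singleton, not_or] at hR
    exact (inv_mul_eq_one.mp (hthree _ P Q R hQP.symm (Ne.symm hR.2) (Ne.symm hR.1) (h3 P) (h3 Q) (h3 R))).symm
  have hPre : CfsgLib.Zass.Pre G (Sylow p G) := ⟨hfaith, htwo, hthree, hex⟩
  have hK : CfsgLib.Zass.Pre.IsKernel P (P : Subgroup G) := by
    refine ⟨hself P, fun g hg k hk => (Subgroup.mem_normalizer_iff.mp ((hstab g P).mp hg) k).mp hk,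
      fun k hk hk1 c hc => hfix P c k hk hk1 hc, fun y z hy hz => ?_, fun g hg hfree => ?_⟩
    · obtain ⟨⟨k, hk⟩, hkz, -⟩ := hreg P y z hy hz
      exact ⟨k, hk, hkz⟩
    · by_contra hgP
      obtain ⟨⟨k, hk⟩, hk', -⟩ := hreg P Q (g • Q) hQP (fun h => hQP (MulAction.injective g (h.trans hg.symm)))
      set m := k⁻¹ * g with hm
      have hmM : m ∈ M := by
        refine ⟨(stabilizer G P).mul_mem ((stabilizer G P).inv_mem (hself P k hk)) hg, ?_⟩
        show (k⁻¹ * g) • Q = Q
        rw [mul_smul, inv_smul_eq_iff]; exact hk'.symm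
      have hm1 : m ≠ 1 := fun h => hgP (by
        rw [hm, inv_mul_eq_one] at h
        exact h ▸ hk)
      -- some conjugate of the kernel element moves the fixed point of `m`
      let F : ↥(P : Subgroup G) → ↥(P : Subgroup G) := fun x =>
        ⟨(x : G) * (m * (x : G)⁻¹ * m⁻¹), Subgroup.mul_mem _ x.2
          ((Subgroup.mem_normalizer_iff.mp ((hstab m P).mp hmM.1) _).mp (Subgroup.inv_mem _ x.2))⟩
      have hinj : Function.Injective F := by
        intro x y hxy
        have h' : (x : G) * (m * (x : G)⁻¹ * m⁻¹) = (y : G) * (m * (y : G)⁻¹ * m⁻¹) := congrArg Subtype.val hxy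
        by_contra hne
        apply hm1
        refine hfpf m P Q hQP.symm hmM.1 hmM.2 ((y : G)⁻¹ * x) (Subgroup.mul_mem _ (Subgroup.inv_mem _ y.2) x.2) ?_
          (fun h => hne (Subtype.ext (inv_mul_eq_one.mp h).symm))
        calc m * ((y : G)⁻¹ * x) * m⁻¹ = (y : G)⁻¹ * ((y : G) * (m * (y : G)⁻¹ * m⁻¹)) * (m * (x : G)⁻¹ * m⁻¹)⁻¹ := by group
          _ = (y : G)⁻¹ * ((x : G) * (m * (x : G)⁻¹ * m⁻¹)) * (m * (x : G)⁻¹ * m⁻¹)⁻¹ := by rw [h']
          _ = (y : G)⁻¹ * x := by group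
      obtain ⟨x, hx⟩ := Finite.surjective_of_injective hinj ⟨k, hk⟩
      have hx' : (x : G) * (m * (x : G)⁻¹ * m⁻¹) = k := congrArg Subtype.val hx
      have hfixpt : g • ((x : G) • Q) = (x : G) • Q := by
        rw [show g = k * m by rw [hm]; group, ← hx']
        calc ((x : G) * (m * (x : G)⁻¹ * m⁻¹) * m) • (x : G) • Q = (x : G) • m • Q := by
              rw [← mul_smul, ← mul_smul]; congr 1; group
          _ = (x : G) • Q := by rw [show m • Q = Q from hmM.2]
      exact hQP (MulAction.injective (x : G) ((hfree _ hfixpt).trans (hself P x x.2).symm))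
  obtain ⟨g, hgP, hgQ⟩ := (MulAction.is_two_pretransitive_iff.mp htwo) hQP.symm hQP
  have hgM : g ∉ M := fun h => hQP (hgP.symm.trans h.1)
  have hg2 : g * g ∈ M := ⟨by show (g * g) • P = P; rw [mul_smul, hgP, hgQ],
    by show (g * g) • Q = Q; rw [mul_smul, hgQ, hgP]⟩
  have hgn : ∀ m ∈ M, g * m * g⁻¹ ∈ M := fun m hm => by
    refine ⟨?_, ?_⟩
    · show (g * m * g⁻¹) • P = P
      rw [mul_smul, mul_smul, inv_smul_eq_iff.mpr hgQ.symm, hm.2, hgQ]
    · show (g * m * g⁻¹) • Q = Q
      rw [mul_smul, mul_smul, inv_smul_eq_iff.mpr hgP.symm, hm.1, hgP]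
  obtain ⟨n, hn', hss, hinv⟩ := hswap P M g hMcard
    (fun m hm => (hstab m P).mp hm.1) (fun m hm => hfpf m P Q hQP.symm hm.1 hm.2) hgM hg2 hgn
  obtain ⟨F, iF, fF, hF, -, -, hiso⟩ := CfsgLib.ZassPSL.exists_mulEquiv_psl hPre hQP.symm (P : Subgroup G) hK
    (hcomm P) Fact.out (hcard P) (by rw [hMcard, ← Nat.card_eq_fintype_card, hn]; omega)
    (s := g * n) (by rw [mul_smul, hn'.1, hgP]) (by rw [mul_smul, hn'.2, hgQ]) hss hinv
  exact ⟨F, iF, fF, hF, hiso⟩

end CfsgLib.DihedralEight
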