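import Cfsg.Agent.Lib.DihedralEight.Order
import Cfsg.Agent.Lib.DihedralEight.Recognition

/-!
# Groups with a dihedral involution centralizer of order eight and no subgroup of index two

They are simple, of order 168 or 360, hence isomorphic to `PSL(2,7)` or `PSL(2,9)`.
-/

set_option autoImplicit false

namespace CfsgLib.DihedralEight

open DihedralGroup

theorem index_normalizer {H : Type*} [Group H] [Finite H] {p : ℕ} [Fact p.Prime] (P : Sylow p H) :
    (Subgroup.normalizer ((P : Subgroup H) : Set H)).index = Nat.card (Sylow p H) :=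
  (Sylow.card_eq_index_normalizer P).symm

theorem normal_of_unique {H : Type*} [Group H] [Finite H] {p : ℕ} [Fact p.Prime] (P : Sylow p H)
    (h : Nat.card (Sylow p H) = 1) : (P : Subgroup H).Normal :=
  Subgroup.normalizer_eq_top_iff.mp (Subgroup.index_eq_one.mp ((index_normalizer P).trans h))

theorem centralizer_singleton_le {H : Type*} [Group H] (x : H) :
    Subgroup.centralizer ({x} : Set H) ≤ Subgroup.centralizer (Subgroup.zpowers x : Set H) := by
  intro y hy
  rw [Subgroup.mem_centralizer_iff]
  rintro _ ⟨i, rfl⟩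
  exact ((show Commute y x from Subgroup.mem_centralizer_singleton_iff.mp hy).zpow_right i).symm

variable {G : Type*} [Group G] [Finite G] {t : G}
  (e : Subgroup.centralizer ({t} : Set G) ≃* DihedralGroup 4) (ht : orderOf t = 2)
  (hconj : ∀ u : G, orderOf u = 2 → IsConj u t)

omit [Finite G] in
theorem d8_gen : ∀ d : DihedralGroup 4, ∃ a b : DihedralGroup 4, a * a = 1 ∧ b * b = 1 ∧ d = a * b := by
  decide

omit [Finite G] in
theorem d8_swap : ∀ a b : DihedralGroup 4, a * a ≠ 1 → b ≠ 1 → b ≠ a → b ≠ a * a → b ≠ a * a * a →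
    b * b = 1 ∧ b * a * b = a * a * a := by decide

include e ht hconj

/-- Elements of odd order centralize no involution. -/
theorem odd_centralizer {x : G} (hx : Odd (orderOf x)) (hx1 : x ≠ 1) :
    ¬ 2 ∣ Nat.card (Subgroup.centralizer ({x} : Set G)) := by
  haveI : Fact (Nat.Prime 2) := ⟨Nat.prime_two⟩
  intro h
  obtain ⟨⟨u, hu⟩, hu2⟩ := exists_prime_orderOf_dvd_card' 2 h
  rw [← Subgroup.orderOf_coe] at hu2
  obtain ⟨c, hc⟩ := isConj_iff.mp (hconj u hu2)
  have hmem : c * x * c⁻¹ ∈ Subgroup.centralizer ({t} : Set G) := by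
    rw [Subgroup.mem_centralizer_singleton_iff, ← hc]
    rw [Subgroup.mem_centralizer_singleton_iff] at hu
    calc c * x * c⁻¹ * (c * u * c⁻¹) = c * (x * u) * c⁻¹ := by group
      _ = c * (u * x) * c⁻¹ := by rw [hu]
      _ = c * u * c⁻¹ * (c * x * c⁻¹) := by group
  have h8 := orderOf_dvd_natCard (⟨_, hmem⟩ : Subgroup.centralizer ({t} : Set G))
  rw [← Subgroup.orderOf_coe, Nat.card_congr e.toEquiv, DihedralGroup.nat_card] at h8
  have h8' : orderOf x ∣ 8 := by
    have : orderOf (MulAut.conj c x) = orderOf x := MulEquiv.orderOf_eq _ x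
    exact this ▸ h8
  have : orderOf x ∣ 1 :=
    ((Nat.coprime_two_right.mpr hx).pow_right 3).dvd_of_dvd_mul_left (show orderOf x ∣ 2 ^ 3 * 1 from h8')
  exact hx1 (orderOf_eq_one_iff.mp (Nat.dvd_one.mp this))

/-- The group is simple. -/
theorem isSimpleGroup : IsSimpleGroup G := by
  haveI : Fact (Nat.Prime 2) := ⟨Nat.prime_two⟩
  set C := Subgroup.centralizer ({t} : Set G) with hC
  have ht2 : t * t = 1 := by rw [← sq, ← ht, pow_orderOf_eq_one]
  haveI : Nontrivial G := ⟨⟨t, 1, fun h => by rw [h, orderOf_one] at ht; omega⟩⟩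
  refine ⟨fun N hN => ?_⟩
  by_cases h2 : 2 ∣ Nat.card N
  · right
    obtain ⟨⟨u, hu⟩, hu2⟩ := exists_prime_orderOf_dvd_card' 2 h2
    rw [← Subgroup.orderOf_coe] at hu2
    have hinv : ∀ w : G, orderOf w = 2 → w ∈ N := by
      intro w hw
      obtain ⟨c, rfl⟩ := isConj_iff.mp ((hconj u hu2).trans (hconj w hw).symm)
      exact hN.conj_mem u hu c
    have hsq : ∀ a : DihedralGroup 4, a * a = 1 → emb e a ∈ N := by
      intro a ha
      rcases eq_or_ne a 1 with rfl | h1
      · rw [map_one]; exact N.one_mem
      · apply hinv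
        rw [orderOf_injective _ (emb_injective e)]
        exact orderOf_eq_prime (by rw [sq]; exact ha) h1
    have hCN : C ≤ N := by
      intro x hx
      obtain ⟨a, b, ha, hb, hab⟩ := d8_gen (e ⟨x, hx⟩)
      rw [← emb_apply e hx, hab, map_mul]
      exact N.mul_mem (hsq a ha) (hsq b hb)
    have hCp : IsPGroup 2 C := IsPGroup.of_card (n := 3) (by
      rw [Nat.card_congr e.toEquiv, DihedralGroup.nat_card]; norm_num)
    let S : Sylow 2 G := hCp.toSylow (by
      rw [← even_iff_two_dvd, Nat.not_even_iff_odd]; exact index_odd e ht)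
    have hNS : Subgroup.normalizer ((S : Subgroup G) : Set G) ≤ N := by
      intro g hg
      refine hCN ?_
      have htC : t ∈ C := Subgroup.mem_centralizer_singleton_iff.mpr rfl
      have hgt : g * t * g⁻¹ ∈ C := (Subgroup.mem_normalizer_iff.mp hg t).mp htC
      have hcen : ∀ c ∈ C, g * t * g⁻¹ * c = c * (g * t * g⁻¹) := by
        intro c hc
        have h' : g⁻¹ * c * g ∈ C := by
          refine (Subgroup.mem_normalizer_iff.mp hg _).mpr ?_
          show g * (g⁻¹ * c * g) * g⁻¹ ∈ C
          rwa [show g * (g⁻¹ * c * g) * g⁻¹ = c by group]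
        have h'' := Subgroup.mem_centralizer_singleton_iff.mp h'
        calc g * t * g⁻¹ * c = g * (t * (g⁻¹ * c * g)) * g⁻¹ := by group
          _ = g * ((g⁻¹ * c * g) * t) * g⁻¹ := by rw [h'']
          _ = c * (g * t * g⁻¹) := by group
      have hgtt : g * t * g⁻¹ = t := by
        refine ((emb_apply e hgt).symm.trans ?_).trans (emb_two e ht)
        refine congrArg (emb e) (center_d8 _ (fun w => ?_) fun h => ?_)
        · obtain ⟨⟨c, hc⟩, rfl⟩ := e.surjective w
          rw [← map_mul, ← map_mul]
          exact congrArg e (Subtype.ext (hcen c hc))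
        · rw [map_eq_one_iff _ e.injective] at h
          have h1 : g * t * g⁻¹ = 1 := congrArg Subtype.val h
          rw [conj_eq_one_iff] at h1
          rw [h1, orderOf_one] at ht
          omega
      rw [Subgroup.mem_centralizer_singleton_iff]
      exact mul_inv_eq_iff_eq_mul.mp hgtt
    have htop := Sylow.normalizer_sup_eq_top' S (N := N) hCN
    exact top_le_iff.mp (htop.ge.trans (sup_le hNS le_rfl))
  · left
    rw [Subgroup.eq_bot_iff_forall]
    intro n hn
    have hodd : ∀ x ∈ N, x ≠ 1 → ∀ u : G, orderOf u = 2 → u * x * u⁻¹ ≠ x := by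
      intro x hx hx1 u hu hfix
      have hxo : Odd (orderOf x) := by
        rw [← Nat.not_even_iff_odd, even_iff_two_dvd, ← Subgroup.orderOf_mk x hx]
        exact fun h => h2 (h.trans (orderOf_dvd_natCard _))
      refine odd_centralizer e ht hconj hxo hx1 ?_
      have hmem : u ∈ Subgroup.centralizer ({x} : Set G) :=
        Subgroup.mem_centralizer_singleton_iff.mpr (mul_inv_eq_iff_eq_mul.mp hfix)
      rw [← hu, ← Subgroup.orderOf_mk u hmem]
      exact orderOf_dvd_natCard _
    have hinv : ∀ u : G, orderOf u = 2 → ∀ x ∈ N, u * x * u⁻¹ = x⁻¹ := fun u hu =>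
      invert_of_fpf N u (by rw [← sq, ← hu, pow_orderOf_eq_one]) (fun x hx => hN.conj_mem x hx u)
        (fun x hx hfix => by_contra fun h => hodd x hx h u hu hfix)
    by_contra hn1
    have hu : ∀ a : DihedralGroup 4, a ≠ 1 → a * a = 1 → orderOf (emb e a) = 2 := fun a h1 ha => by
      rw [orderOf_injective _ (emb_injective e)]
      exact orderOf_eq_prime (by rw [sq]; exact ha) h1
    refine hodd n hn hn1 _ (hu (sr 0 * r 2) (by decide) (by decide)) ?_
    rw [map_mul]
    have h1 := hinv _ (hu (r 2) (by decide) (by decide)) n hn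
    have h2' := hinv _ (hu (sr 0) (by decide) (by decide)) n⁻¹ (N.inv_mem hn)
    rw [show emb e (sr 0) * emb e (r 2) * n * (emb e (sr 0) * emb e (r 2))⁻¹ =
      emb e (sr 0) * (emb e (r 2) * n * (emb e (r 2))⁻¹) * (emb e (sr 0))⁻¹ by group, h1, h2', inv_inv]

/-- Order 168 gives `PSL(2,7)`, order 360 gives `PSL(2,9)`. -/
theorem exists_psl_iso :
    ∃ (F : Type) (_ : Field F) (_ : Fintype F), (Fintype.card F = 7 ∨ Fintype.card F = 9) ∧
      Nonempty (G ≃* Matrix.ProjectiveSpecialLinearGroup (Fin 2) F) := by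
  haveI := isSimpleGroup e ht hconj
  have hbig : 24 < Nat.card G := by rcases card_eq e ht hconj with h | h <;> omega
  -- number of Sylow subgroups
  have hnumber : ∀ (p : ℕ) [Fact p.Prime] (P : Sylow p G), (P : Subgroup G) ≠ ⊥ → (P : Subgroup G) ≠ ⊤ →
      Nat.card (Sylow p G) ≠ 1 := by
    intro p _ P h1 h2 h
    rcases IsSimpleGroup.eq_bot_or_eq_top_of_normal (P : Subgroup G) (normal_of_unique P h) with h' | h'
    exacts [h1 h', h2 h']
  have hfour : ∀ (p : ℕ) [Fact p.Prime], Nat.card (Sylow p G) ≠ 1 → Nat.card (Sylow p G) ≤ 4 → False := by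
    intro p _ h1 h4
    let f := MulAction.toPermHom G (Sylow p G)
    rcases IsSimpleGroup.eq_bot_or_eq_top_of_normal f.ker inferInstance with h | h
    · have hinj : Function.Injective f := (MonoidHom.ker_eq_bot_iff f).mp h
      have := Nat.card_le_card_of_injective f hinj
      rw [Nat.card_perm] at this
      have h24 := Nat.factorial_le h4
      norm_num [Nat.factorial] at h24
      omega
    · apply h1
      rw [Nat.card_eq_one_iff_unique]
      refine ⟨⟨fun P Q => ?_⟩, inferInstance⟩
      obtain ⟨g, hg⟩ := MulAction.exists_smul_eq G P Q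
      have hg1 : f g = 1 := MonoidHom.mem_ker.mp (h ▸ Subgroup.mem_top g)
      exact (DFunLike.congr_fun hg1 P).symm.trans hg
  rcases card_eq e ht hconj with hG | hG
  · -- order 168
    haveI : Fact (Nat.Prime 7) := ⟨by norm_num⟩
    have hcardP : ∀ P : Sylow 7 G, Nat.card (P : Subgroup G) = 7 ^ 1 := by
      intro P
      rw [Sylow.card_eq_multiplicity, hG]
      congr 1
      rw [show (168 : ℕ) = 7 ^ 1 * 24 by norm_num, Nat.factorization_mul (by norm_num) (by norm_num),
        Finsupp.add_apply, Nat.Prime.factorization_pow (Fact.out : Nat.Prime 7), Finsupp.single_eq_same,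
        Nat.factorization_eq_zero_of_not_dvd (show ¬ 7 ∣ 24 by norm_num)]
    obtain ⟨P₀⟩ : Nonempty (Sylow 7 G) := inferInstance
    have hP₀ : ∀ P : Sylow 7 G, (P : Subgroup G) ≠ ⊥ ∧ (P : Subgroup G) ≠ ⊤ := fun P => by
      constructor <;> intro h <;> have h' := hcardP P <;> rw [h] at h'
      · rw [Subgroup.card_bot] at h'; norm_num at h'
      · rw [Subgroup.card_top, hG] at h'; norm_num at h'
    have hn : Nat.card (Sylow 7 G) = 7 ^ 1 + 1 := by
      have hd : Nat.card (Sylow 7 G) ∣ 24 := by
        have := P₀.card_dvd_index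
        rwa [show (P₀ : Subgroup G).index = 24 from by
          have h := Subgroup.card_mul_index (P₀ : Subgroup G); rw [hcardP, hG] at h; omega] at this
      have hm : Nat.card (Sylow 7 G) % 7 = 1 := card_sylow_modEq_one 7 G
      have h1 := hnumber 7 P₀ (hP₀ P₀).1 (hP₀ P₀).2
      have := Nat.le_of_dvd (by norm_num) hd
      interval_cases Nat.card (Sylow 7 G) <;> omega
    have hcomm : ∀ P : Sylow 7 G, ∀ a ∈ (P : Subgroup G), ∀ b ∈ (P : Subgroup G), a * b = b * a := by
      intro P a ha b hb
      haveI : IsCyclic (P : Subgroup G) := isCyclic_of_prime_card (p := 7) (by rw [hcardP, pow_one])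
      let _ : CommGroup (P : Subgroup G) := IsCyclic.commGroup
      exact congrArg Subtype.val (mul_comm (⟨a, ha⟩ : (P : Subgroup G)) ⟨b, hb⟩)
    have hcent : ∀ P : Sylow 7 G, ∀ x ∈ (P : Subgroup G), x ≠ 1 →
        Subgroup.centralizer ({x} : Set G) ≤ P := by
      intro P x hx hx1
      have hN : Nat.card (Subgroup.normalizer ((P : Subgroup G) : Set G)) = 21 := by
        have h := Subgroup.card_mul_index (Subgroup.normalizer ((P : Subgroup G) : Set G))
        rw [index_normalizer, hn, hG] at h
        omega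
      have hz : Subgroup.zpowers x = (P : Subgroup G) := by
        refine Subgroup.eq_of_le_of_card_ge (Subgroup.zpowers_le.mpr hx) ?_
        have ho : orderOf x ∣ 7 := by
          have := Subgroup.orderOf_dvd_natCard (P : Subgroup G) hx
          rwa [hcardP, pow_one] at this
        rcases (Nat.dvd_prime (by norm_num)).mp ho with h | h
        · exact absurd (orderOf_eq_one_iff.mp h) hx1
        · rw [Nat.card_zpowers, h, hcardP, pow_one]
      have hle : Subgroup.centralizer ({x} : Set G) ≤ Subgroup.normalizer ((P : Subgroup G) : Set G) := by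
        rw [← hz]
        exact (centralizer_singleton_le x).trans (Subgroup.centralizer_le_normalizer _)
      have hPle : (P : Subgroup G) ≤ Subgroup.centralizer ({x} : Set G) := fun y hy =>
        Subgroup.mem_centralizer_singleton_iff.mpr (hcomm P y hy x hx)
      have hd := Subgroup.card_dvd_of_le hle
      have hd' := Subgroup.card_dvd_of_le hPle
      rw [hN] at hd
      rw [hcardP] at hd'
      by_contra hnot
      have hne : Nat.card (Subgroup.centralizer ({x} : Set G)) ≠ 7 := fun h =>
        hnot (Subgroup.eq_of_le_of_card_ge hPle (by rw [h, hcardP]; norm_num)).ge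
      have h21 : Nat.card (Subgroup.centralizer ({x} : Set G)) = 21 := by
        have := Nat.le_of_dvd (by norm_num) hd
        interval_cases Nat.card (Subgroup.centralizer ({x} : Set G)) <;> omega
      have heq := Subgroup.eq_of_le_of_card_ge hle (by omega)
      refine not_normalizer_le_centralizer P (hP₀ P).1 (hP₀ P).2 ?_
      rw [← heq, ← hz]
      exact centralizer_singleton_le x
    refine (exists_psl 7 1 3 hcardP hcomm hcent hn (by rw [hG]; norm_num) (by norm_num)
      (by norm_num) (fun P M g hM _ _ hgM hg2 hgn => ?_)).imp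
        fun F ⟨iF, fF, hF, hiso⟩ => ⟨iF, fF, Or.inl (by rw [hF]; norm_num), hiso⟩
    · refine ⟨g * g, hg2, ?_, ?_⟩
      · have h3 : (g * g) ^ 3 = 1 := by
          rw [← Subgroup.coe_mk M (g * g) hg2, ← Subgroup.coe_pow, ← hM, pow_card_eq_one', Subgroup.coe_one]
        rw [← h3]; simp [pow_succ, mul_assoc]
      · set s := g * (g * g) with hs
        have hss : s * s = 1 := by
          have h3 : (g * g) ^ 3 = 1 := by
            rw [← Subgroup.coe_mk M (g * g) hg2, ← Subgroup.coe_pow, ← hM, pow_card_eq_one', Subgroup.coe_one]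
          rw [hs, ← h3]; simp [pow_succ, mul_assoc]
        have hs1 : s ≠ 1 := fun h => hgM (by
          rw [show g = (g * g)⁻¹ from eq_inv_of_mul_eq_one_left h]
          exact M.inv_mem hg2)
        have hso : orderOf s = 2 := orderOf_eq_prime (by rw [sq]; exact hss) hs1
        have hsn : ∀ m ∈ M, s * m * s⁻¹ ∈ M := fun m hm => by
          rw [show s * m * s⁻¹ = g * (g * (g * m * g⁻¹) * g⁻¹) * g⁻¹ by rw [hs]; group]
          exact hgn _ (hgn _ (hgn m hm))
        refine invert_of_fpf M s hss hsn fun m hm hfix => ?_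
        by_contra hm1
        have hmo : orderOf m ∣ 3 := hM ▸ Subgroup.orderOf_dvd_natCard M hm
        have hodd : Odd (orderOf m) := Odd.of_dvd_nat (by decide) hmo
        refine odd_centralizer e ht hconj hodd hm1 ?_
        have hmem : s ∈ Subgroup.centralizer ({m} : Set G) :=
          Subgroup.mem_centralizer_singleton_iff.mpr (mul_inv_eq_iff_eq_mul.mp hfix)
        rw [← hso, ← Subgroup.orderOf_mk s hmem]
        exact orderOf_dvd_natCard _
  · -- order 360
    haveI : Fact (Nat.Prime 3) := ⟨by norm_num⟩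
    have hcardP : ∀ P : Sylow 3 G, Nat.card (P : Subgroup G) = 3 ^ 2 := by
      intro P
      rw [Sylow.card_eq_multiplicity, hG]
      congr 1
      rw [show (360 : ℕ) = 3 ^ 2 * 40 by norm_num, Nat.factorization_mul (by norm_num) (by norm_num),
        Finsupp.add_apply, Nat.Prime.factorization_pow (Fact.out : Nat.Prime 3), Finsupp.single_eq_same,
        Nat.factorization_eq_zero_of_not_dvd (show ¬ 3 ∣ 40 by norm_num)]
    have hcomm : ∀ P : Sylow 3 G, ∀ a ∈ (P : Subgroup G), ∀ b ∈ (P : Subgroup G), a * b = b * a :=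
      fun P a ha b hb => congrArg Subtype.val
        (IsPGroup.commutative_of_card_eq_prime_sq (hcardP P) (⟨a, ha⟩ : (P : Subgroup G)) ⟨b, hb⟩)
    have hP₀ : ∀ P : Sylow 3 G, (P : Subgroup G) ≠ ⊥ ∧ (P : Subgroup G) ≠ ⊤ := fun P => by
      constructor <;> intro h <;> have h' := hcardP P <;> rw [h] at h'
      · rw [Subgroup.card_bot] at h'; norm_num at h'
      · rw [Subgroup.card_top, hG] at h'; norm_num at h'
    obtain ⟨P₀⟩ : Nonempty (Sylow 3 G) := inferInstance
    have hn : Nat.card (Sylow 3 G) = 3 ^ 2 + 1 := by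
      have hd : Nat.card (Sylow 3 G) ∣ 40 := by
        have := P₀.card_dvd_index
        rwa [show (P₀ : Subgroup G).index = 40 from by
          have h := Subgroup.card_mul_index (P₀ : Subgroup G); rw [hcardP, hG] at h; omega] at this
      have hm : Nat.card (Sylow 3 G) % 3 = 1 := card_sylow_modEq_one 3 G
      have h1 := hnumber 3 P₀ (hP₀ P₀).1 (hP₀ P₀).2
      have h4 : ¬ Nat.card (Sylow 3 G) ≤ 4 := hfour 3 h1
      have h40 : Nat.card (Sylow 3 G) ≠ 40 := fun h => by
        refine not_normalizer_le_centralizer P₀ (hP₀ P₀).1 (hP₀ P₀).2 ?_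
        have hN : Subgroup.normalizer ((P₀ : Subgroup G) : Set G) = P₀ := by
          refine (Subgroup.eq_of_le_of_card_ge Subgroup.le_normalizer ?_).symm
          have h' := Subgroup.card_mul_index (Subgroup.normalizer ((P₀ : Subgroup G) : Set G))
          rw [index_normalizer, h, hG] at h'
          rw [hcardP]
          omega
        rw [hN]
        exact fun y hy => Subgroup.mem_centralizer_iff.mpr fun z hz => hcomm P₀ z hz y hy
      have := Nat.le_of_dvd (by norm_num) hd
      interval_cases Nat.card (Sylow 3 G) <;> omega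
    have hcent : ∀ P : Sylow 3 G, ∀ x ∈ (P : Subgroup G), x ≠ 1 →
        Subgroup.centralizer ({x} : Set G) ≤ P := by
      intro P x hx hx1
      set Cx := Subgroup.centralizer ({x} : Set G) with hCx
      have hPle : (P : Subgroup G) ≤ Cx := fun y hy =>
        Subgroup.mem_centralizer_singleton_iff.mpr (hcomm P y hy x hx)
      have hodd : ¬ 2 ∣ Nat.card Cx := odd_centralizer e ht hconj
        (Odd.of_dvd_nat (by decide) ((Subgroup.orderOf_dvd_natCard (P : Subgroup G) hx).trans
          (by rw [hcardP P]; norm_num : Nat.card (P : Subgroup G) ∣ 9))) hx1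
      have h360 : Nat.card Cx ∣ 360 := hG ▸ Subgroup.card_subgroup_dvd_card Cx
      have h45 : Nat.card Cx ∣ 45 :=
        (((Nat.prime_two.coprime_iff_not_dvd.mpr hodd).symm).pow_right 3).dvd_of_dvd_mul_left
          (show Nat.card Cx ∣ 2 ^ 3 * 45 from h360)
      have h9 : 9 ∣ Nat.card Cx := by
        have := Subgroup.card_dvd_of_le hPle
        rwa [hcardP] at this
      -- the Sylow subgroup is normal in the centralizer
      have hnorm : Cx ≤ Subgroup.normalizer ((P : Subgroup G) : Set G) := by
        let Q : Sylow 3 Cx := P.subtype hPle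
        have hd : Nat.card (Sylow 3 Cx) ∣ 5 := by
          have h1 := Q.card_dvd_index
          have h2 : (Q : Subgroup Cx).index * 9 = Nat.card Cx := by
            have h := Subgroup.card_mul_index (Q : Subgroup Cx)
            rw [show Nat.card (Q : Subgroup Cx) = 9 by
              rw [Sylow.coe_subtype, Nat.card_congr (Subgroup.subgroupOfEquivOfLe hPle).toEquiv, hcardP]; norm_num,
              mul_comm] at h
            exact h
          refine h1.trans (Nat.dvd_of_mul_dvd_mul_right (show 0 < 9 by norm_num) ?_)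
          rw [h2]; exact h45
        have hm : Nat.card (Sylow 3 Cx) % 3 = 1 := card_sylow_modEq_one 3 Cx
        have hone : Nat.card (Sylow 3 Cx) = 1 := by
          rcases (Nat.dvd_prime (by norm_num)).mp hd with h | h
          · exact h
          · omega
        have hQ := normal_of_unique Q hone
        rw [Sylow.coe_subtype] at hQ
        exact Subgroup.normal_subgroupOf_iff_le_normalizer hPle |>.mp hQ
      have hN : Nat.card (Subgroup.normalizer ((P : Subgroup G) : Set G)) = 36 := by
        have h := Subgroup.card_mul_index (Subgroup.normalizer ((P : Subgroup G) : Set G))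
        rw [index_normalizer, hn, hG] at h
        omega
      have h36 := Subgroup.card_dvd_of_le hnorm
      rw [hN] at h36
      have h9' : Nat.card Cx ∣ 9 := by
        have := Nat.dvd_gcd h36 h45
        rwa [show Nat.gcd 36 45 = 9 by norm_num] at this
      exact (Subgroup.eq_of_le_of_card_ge hPle (by rw [hcardP]; exact Nat.le_of_dvd (by norm_num) h9')).ge
    refine (exists_psl 3 2 4 hcardP hcomm hcent hn (by rw [hG]; norm_num) (by norm_num)
      (by norm_num) (fun P M g hM hMN hfp hgM hg2 hgn => ?_)).imp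
        fun F ⟨iF, fF, hF, hiso⟩ => ⟨iF, fF, Or.inr (by rw [hF]; norm_num), hiso⟩
    -- an element of order four in the two-point stabilizer
    obtain ⟨m, hmM, hm2⟩ : ∃ m ∈ M, m * m ≠ 1 := by
      by_contra hall
      push Not at hall
      obtain ⟨x, hx, hx1⟩ := (P : Subgroup G).bot_or_exists_ne_one.resolve_left (hP₀ P).1
      have hinvP : ∀ m ∈ M, m ≠ 1 → m * x * m⁻¹ = x⁻¹ := fun m hm hm1 =>
        invert_of_fpf (P : Subgroup G) m (hall m hm)
          (fun y hy => (Subgroup.mem_normalizer_iff.mp (hMN hm) y).mp hy)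
          (fun y hy hfix => by_contra fun h => hm1 (hfp m hm y hy hfix h)) x hx
      have huniq : ∀ a ∈ M, ∀ b ∈ M, a ≠ 1 → b ≠ 1 → a = b := by
        intro a ha b hb ha1 hb1
        have h1 : b⁻¹ * a = 1 := by
          refine hfp _ (M.mul_mem (M.inv_mem hb) ha) x hx ?_ hx1
          rw [show b⁻¹ * a * x * (b⁻¹ * a)⁻¹ = b⁻¹ * (a * x * a⁻¹) * b by group, hinvP a ha ha1]
          rw [show x⁻¹ = b * x * b⁻¹ from (hinvP b hb hb1).symm]
          group
        exact (inv_mul_eq_one.mp h1).symm
      have hle : Nat.card M ≤ Nat.card Bool := by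
        classical
        refine Nat.card_le_card_of_injective (fun m : M => decide ((m : G) = 1)) fun a b h => ?_
        simp only [decide_eq_decide] at h
        by_cases ha : (a : G) = 1
        · exact Subtype.ext (ha.trans (h.mp ha).symm)
        · exact Subtype.ext (huniq a a.2 b b.2 ha (fun hb => ha (h.mpr hb)))
      rw [hM, Nat.card_eq_fintype_card, Fintype.card_bool] at hle
      omega
    have hm4 : m ^ 4 = 1 := by
      rw [← Subgroup.coe_mk M m hmM, ← Subgroup.coe_pow, ← hM, pow_card_eq_one', Subgroup.coe_one]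
    have hmm : (m * m) * (m * m) = 1 := by rw [← hm4]; simp [pow_succ, mul_assoc]
    have hzo : orderOf (m * m) = 2 := orderOf_eq_prime (by rw [sq]; exact hmm) hm2
    have hord : orderOf m = 4 :=
      orderOf_eq_prime_pow (p := 2) (n := 1) (by rw [pow_one, sq]; exact hm2) hm4
    have hMeq : Subgroup.zpowers m = M := Subgroup.eq_of_le_of_card_ge (Subgroup.zpowers_le.mpr hmM)
      (by rw [hM, Nat.card_zpowers, hord])
    have hcom : ∀ a ∈ M, ∀ b ∈ M, a * b = b * a := by
      rw [← hMeq]
      rintro _ ⟨i, rfl⟩ _ ⟨j, rfl⟩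
      exact (Commute.refl m).zpow_zpow i j |>.eq
    -- the swap centralizes the involution of the stabilizer
    obtain ⟨c, hc⟩ := isConj_iff.mp (hconj (m * m) hzo)
    have hginv : g * (m * m) * g⁻¹ = m * m := by
      have hgm := hgn m hmM
      rw [← hMeq] at hgm
      obtain ⟨k, hk⟩ := (Subgroup.mem_zpowers_iff).mp hgm
      have hk2 : g * (m * m) * g⁻¹ = (m * m) ^ k := by
        rw [(Commute.refl m).mul_zpow, hk]; group
      rcases Int.even_or_odd k with ⟨l, rfl⟩ | ⟨l, rfl⟩
      · exfalso
        rw [zpow_add, ← (Commute.refl (m * m)).mul_zpow, hmm, one_zpow] at hk2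
        exact hm2 (conj_eq_one_iff.mp hk2)
      · rw [hk2, zpow_add, two_mul, zpow_add, ← (Commute.refl (m * m)).mul_zpow, hmm, one_zpow, one_mul, zpow_one]
    have hin : ∀ y : G, y * (m * m) * y⁻¹ = m * m → c * y * c⁻¹ ∈ Subgroup.centralizer ({t} : Set G) := by
      intro y hy
      rw [Subgroup.mem_centralizer_singleton_iff, ← hc]
      calc c * y * c⁻¹ * (c * (m * m) * c⁻¹) = c * (y * (m * m) * y⁻¹) * y * c⁻¹ := by group
        _ = c * (m * m) * c⁻¹ * (c * y * c⁻¹) := by rw [hy]; group
    let a := e ⟨_, hin m (by group)⟩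
    let b := e ⟨_, hin g hginv⟩
    have hemb : emb e a = c * m * c⁻¹ ∧ emb e b = c * g * c⁻¹ := ⟨emb_apply e _, emb_apply e _⟩
    have hconjinj : ∀ y z : G, c * y * c⁻¹ = c * z * c⁻¹ → y = z := fun y z h =>
      mul_left_cancel (mul_right_cancel h)
    have hkey : b * b = 1 ∧ b * a * b = a * a * a := by
      refine d8_swap a b ?_ ?_ ?_ ?_ ?_
      · intro h
        have h' := congrArg (emb e) h
        rw [map_mul, map_one, hemb.1] at h'
        exact hm2 (conj_eq_one_iff.mp (show c * (m * m) * c⁻¹ = 1 by rw [← h']; group))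
      all_goals intro h; have h' := congrArg (emb e) h
      · rw [map_one, hemb.2] at h'
        exact hgM (conj_eq_one_iff.mp h' ▸ M.one_mem)
      · rw [hemb.1, hemb.2] at h'
        exact hgM (hconjinj g m h' ▸ hmM)
      · rw [map_mul, hemb.1, hemb.2] at h'
        exact hgM (hconjinj g (m * m) (h'.trans (by group)) ▸ M.mul_mem hmM hmM)
      · rw [map_mul, map_mul, hemb.1, hemb.2] at h'
        exact hgM (hconjinj g (m * m * m) (h'.trans (by group)) ▸ M.mul_mem (M.mul_mem hmM hmM) hmM)
    obtain ⟨hbb, hbab⟩ := hkey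
    have hgg : g * g = 1 := by
      have h' := congrArg (emb e) hbb
      rw [map_mul, map_one, hemb.2] at h'
      exact conj_eq_one_iff.mp (show c * (g * g) * c⁻¹ = 1 by rw [← h']; group)
    have hgmg : g * m * g⁻¹ = m⁻¹ := by
      have h' := congrArg (emb e) hbab
      simp only [map_mul, hemb.1, hemb.2] at h'
      have h3 : g * m * g = m * m * m := hconjinj _ _ (by
        calc c * (g * m * g) * c⁻¹ = c * g * c⁻¹ * (c * m * c⁻¹) * (c * g * c⁻¹) := by group
          _ = _ := by rw [h']; group)
      rw [inv_eq_of_mul_eq_one_right hgg, h3]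
      exact eq_inv_of_mul_eq_one_left (by rw [← hm4]; simp [pow_succ, mul_assoc])
    refine ⟨1, M.one_mem, by rw [mul_one]; exact hgg, fun y hy => ?_⟩
    rw [mul_one]
    rw [← hMeq] at hy
    obtain ⟨k, rfl⟩ := (Subgroup.mem_zpowers_iff).mp hy
    rw [← inv_zpow, ← hgmg, conj_zpow]

end CfsgLib.DihedralEight
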