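import Cfsg.Agent.Lib.CharDeep.BrauerSuzukiLarge
import Cfsg.Agent.Lib.CharDeep.ClassSum
import Cfsg.Agent.Lib.Fusion.ThompsonTransfer

/-!
# An involution with dihedral centralizer of order eight

If the centralizer of an involution is dihedral of order eight and there is no subgroup of index two,
the order of the group is 168 or 360 (exceptional characters and the class multiplication formula).
-/

set_option autoImplicit false

namespace CfsgLib.DihedralEight

open scoped ComplexConjugate
open CfsgLib DihedralGroup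
open CfsgLib.CharDeep.Quat (d8Fun d8Sign d8Mat d8Mat_one d8Mat_mul d8Sign_one d8Sign_mul classInner_comp exists_norm_two)

/-- Character values at an involution are integers. -/
theorem exists_int_invol {G : Type*} [Group G] [Finite G] (χ : Cfsg.IrrCharacter G) {u : G} (hu : orderOf u = 2) :
    ∃ z : ℤ, (χ : G → ℂ) u = z := by
  obtain ⟨_, d, ρ, -, rfl⟩ := χ
  obtain ⟨s, -, hsum, -, hroot⟩ := Char.exists_eigen_multiset ρ u
  show ∃ z : ℤ, ρ.character u = z
  rw [hsum]
  clear hsum
  induction s using Multiset.induction_on with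
  | empty => exact ⟨0, by simp⟩
  | cons a s ih =>
    obtain ⟨z, hz⟩ := ih fun b hb => hroot b (Multiset.mem_cons_of_mem hb)
    have h := hroot a (Multiset.mem_cons_self a s)
    rw [hu, sq_eq_one_iff] at h
    rcases h with rfl | rfl
    · exact ⟨1 + z, by simp [hz]⟩
    · exact ⟨-1 + z, by simp [hz]⟩

/-- The arithmetic at the end of the order formula. -/
theorem arith_aux (m a : ℕ) (hm : Odd m) (ha : 1 ≤ a)
    (h : m * (a + 2) ^ 2 = 32 * a * (a + 1)) : m = 21 := by
  have h1 : a + 2 ∣ 32 * a * (a + 1) := ⟨m * (a + 2), by rw [← h]; ring⟩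
  have h2 : a + 2 ∣ 32 * a := by
    refine (Nat.Coprime.dvd_mul_right ?_).mp h1
    rw [show a + 2 = a + 1 + 1 from rfl, Nat.coprime_self_add_left]
    exact Nat.coprime_one_left _
  have h3 : a + 2 ∣ 64 := by
    have h4 : a + 2 ∣ 32 * (a + 2) := dvd_mul_left _ _
    have := Nat.dvd_sub h4 h2
    rwa [show 32 * (a + 2) - 32 * a = 64 by omega] at this
  have h5 := Nat.le_of_dvd (by norm_num) h3
  obtain ⟨k, rfl⟩ := hm
  have ha' : a ≤ 62 := by omega
  interval_cases a <;> omega

theorem arith_aux' (m a : ℕ) (hm : Odd m) (ha : 2 ≤ a)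
    (h : (m : ℤ) * ((a : ℤ) - 2) ^ 2 = 32 * a * (a - 1)) : m = 45 := by
  obtain ⟨c, rfl⟩ : ∃ c, a = c + 2 := ⟨a - 2, by omega⟩
  push_cast at h
  have h' : m * c ^ 2 = 32 * (c + 2) * (c + 1) := by
    zify
    linear_combination h
  have h1 : c ∣ 32 * (c + 2) * (c + 1) := ⟨m * c, by rw [← h']; ring⟩
  have h2 : c ∣ 32 * (c + 2) * 1 := by
    refine (Nat.Coprime.dvd_mul_right ?_).mp (by simpa using h1 : c ∣ 32 * (c + 2) * (c + 1)) |> fun x => by simpa using x
    rw [add_comm, Nat.coprime_add_self_right]
    exact Nat.coprime_one_right _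
  have h3 : c ∣ 64 := by
    have h4 : c ∣ 32 * c := dvd_mul_left _ _
    have := Nat.dvd_sub (by simpa using h2) h4
    rwa [show 32 * (c + 2) - 32 * c = 64 by omega] at this
  have h5 := Nat.le_of_dvd (by norm_num) h3
  obtain ⟨k, rfl⟩ := hm
  interval_cases c <;> omega

theorem d8Fun_cases : ∀ d : DihedralGroup 4, d8Fun d ≠ 0 → d = r 2 ∨ d * d = r 2 := by decide

/-- Number of pairs, weighted by the special function. -/
theorem d8_pairs :
    ∑ x : DihedralGroup 4, ∑ y : DihedralGroup 4,
      (if x * x = 1 ∧ x ≠ 1 ∧ y * y = 1 ∧ y ≠ 1 then d8Fun (x * y) else 0) = 32 := by decide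

variable {G : Type*} [Group G] [Finite G] {t : G}
  (e : Subgroup.centralizer ({t} : Set G) ≃* DihedralGroup 4) (ht : orderOf t = 2)

/-- The embedding of the dihedral group. -/
def emb : DihedralGroup 4 →* G :=
  (Subgroup.centralizer ({t} : Set G)).subtype.comp e.symm.toMonoidHom

omit [Finite G] in
theorem emb_injective : Function.Injective (emb e) :=
  Subtype.val_injective.comp e.symm.injective

omit [Finite G] in
theorem emb_mem (d : DihedralGroup 4) : emb e d ∈ Subgroup.centralizer ({t} : Set G) := (e.symm d).2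

omit [Finite G] in
theorem emb_apply {x : G} (hx : x ∈ Subgroup.centralizer ({t} : Set G)) : emb e (e ⟨x, hx⟩) = x := by
  show (e.symm (e ⟨x, hx⟩) : G) = x
  rw [e.symm_apply_apply]

omit [Finite G] in
theorem center_d8 : ∀ d : DihedralGroup 4, (∀ w, d * w = w * d) → d ≠ 1 → d = r 2 := by decide

include ht

omit [Finite G] in
theorem emb_two : emb e (r 2) = t := by
  have hmem : t ∈ Subgroup.centralizer ({t} : Set G) :=
    Subgroup.mem_centralizer_singleton_iff.mpr rfl
  have h : e ⟨t, hmem⟩ = r 2 := by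
    refine center_d8 _ (fun w => ?_) fun h => ?_
    · obtain ⟨⟨c, hc⟩, rfl⟩ := e.surjective w
      rw [← map_mul, ← map_mul]
      exact congrArg e (Subtype.ext (Subgroup.mem_centralizer_singleton_iff.mp hc).symm)
    · rw [map_eq_one_iff _ e.injective] at h
      rw [show t = 1 from congrArg Subtype.val h, orderOf_one] at ht
      omega
  rw [← h, emb_apply]

include e

/-- The centralizer is a Sylow 2-subgroup. -/
theorem index_odd : Odd (Subgroup.centralizer ({t} : Set G)).index := by
  haveI : Fact (Nat.Prime 2) := ⟨Nat.prime_two⟩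
  set C := Subgroup.centralizer ({t} : Set G)
  have hC : IsPGroup 2 C := IsPGroup.of_card (n := 3) (by
    rw [Nat.card_congr e.toEquiv, DihedralGroup.nat_card]; norm_num)
  obtain ⟨P, hP⟩ := hC.exists_le_sylow
  haveI : Nontrivial (P : Subgroup G) := (Subgroup.nontrivial_iff_ne_bot _).mpr fun h => by
    have h1 : t ∈ (P : Subgroup G) := hP (Subgroup.mem_centralizer_singleton_iff.mpr rfl)
    rw [h, Subgroup.mem_bot] at h1
    rw [h1, orderOf_one] at ht
    omega
  haveI := P.2.center_nontrivial
  obtain ⟨⟨⟨z, hzP⟩, hz⟩, hz1⟩ := exists_ne (1 : Subgroup.center (P : Subgroup G))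
  have hcom : ∀ w ∈ (P : Subgroup G), w * z = z * w := fun w hw =>
    congrArg Subtype.val (Subgroup.mem_center_iff.mp hz ⟨w, hw⟩)
  have hzC : z ∈ C := Subgroup.mem_centralizer_singleton_iff.mpr
    (hcom t (hP (Subgroup.mem_centralizer_singleton_iff.mpr rfl))).symm
  have hzt : z = t := by
    refine ((emb_apply e hzC).symm.trans ?_).trans (emb_two e ht)
    refine congrArg (emb e) (center_d8 _ (fun w => ?_) fun h => ?_)
    · obtain ⟨⟨c, hc⟩, rfl⟩ := e.surjective w
      rw [← map_mul, ← map_mul]
      exact congrArg e (Subtype.ext (hcom c (hP hc)).symm)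
    · rw [map_eq_one_iff _ e.injective] at h
      exact hz1 (Subtype.ext (Subtype.ext (show z = 1 from congrArg Subtype.val h)))
  have hPC : (P : Subgroup G) = C := le_antisymm
    (fun w hw => Subgroup.mem_centralizer_singleton_iff.mpr (hzt ▸ hcom w hw)) hP
  rw [← hPC, ← Nat.not_even_iff_odd, even_iff_two_dvd]
  exact P.not_dvd_index

/-- All involutions are conjugate when there is no subgroup of index two. -/
theorem isConj_of_no_index_two (h2 : ∀ H : Subgroup G, H.index ≠ 2) {u : G} (hu : orderOf u = 2) :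
    IsConj u t := by
  haveI : Fact (Nat.Prime 2) := ⟨Nat.prime_two⟩
  set C := Subgroup.centralizer ({t} : Set G)
  by_contra hut
  set Q : Subgroup G := (Subgroup.zpowers (r 1 : DihedralGroup 4)).map (emb e) with hQ
  have hQC : Q ≤ C := by rintro _ ⟨d, -, rfl⟩; exact emb_mem e d
  have hrel : Q.relIndex C = 2 := by
    have h := Subgroup.card_mul_index (Q.subgroupOf C)
    rw [Nat.card_congr (Subgroup.subgroupOfEquivOfLe hQC).toEquiv, hQ,
      Subgroup.card_map_of_injective (emb_injective e), Nat.card_zpowers, orderOf_r_one,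
      Nat.card_congr e.toEquiv, DihedralGroup.nat_card, ← hQ] at h
    show (Q.subgroupOf C).index = 2
    omega
  have hno : ∀ g : G, g * u * g⁻¹ ∉ Q := by
    rintro g ⟨d, hd, hdg⟩
    apply hut
    refine isConj_iff.mpr ⟨g, ?_⟩
    have hd2 : d ≠ 1 ∧ d * d = 1 := by
      constructor
      · rintro rfl
        rw [map_one, eq_comm, conj_eq_one_iff] at hdg
        rw [hdg, orderOf_one] at hu
        omega
      · apply emb_injective e
        rw [map_mul, hdg, map_one, ← sq, conj_pow, ← hu, pow_orderOf_eq_one, mul_one, mul_inv_cancel]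
    obtain ⟨i, rfl⟩ := hd
    have key : ∀ j : ZMod 4, r j ≠ (1 : DihedralGroup 4) → r j * r j = (1 : DihedralGroup 4) → j = 2 := by
      decide
    simp only [r_one_zpow] at hd2 hdg
    rw [← hdg, key _ hd2.1 hd2.2, emb_two e ht]
  obtain ⟨M, -, hM, -⟩ := ThompsonTransfer.exists_normal_index_two C Q (index_odd e ht) hrel u
    (hu ▸ pow_orderOf_eq_one u) hno
  exact h2 M hM

variable (hconj : ∀ u : G, orderOf u = 2 → IsConj u t)

include hconj

/-- The order formula. -/
theorem card_eq : Nat.card G = 168 ∨ Nat.card G = 360 := by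
  classical
  cases nonempty_fintype G
  set C := Subgroup.centralizer ({t} : Set G) with hC
  let φ : C → ℂ := fun y => (d8Fun (e y) : ℂ)
  have hgen : Cfsg.IsGeneralizedCharacter C φ := by
    let lam : C →* ℂˣ :=
      (Units.map (Int.castRingHom ℂ).toMonoidHom).comp
        ((MonoidHom.toHomUnits (⟨⟨d8Sign, d8Sign_one⟩, d8Sign_mul⟩ : DihedralGroup 4 →* ℤ)).comp e.toMonoidHom)
    let M : C →* Matrix (Fin 2) (Fin 2) ℂ :=
      ((Int.castRingHom ℂ).mapMatrix.toMonoidHom.comp
        (⟨⟨d8Mat, d8Mat_one⟩, d8Mat_mul⟩ : DihedralGroup 4 →* Matrix (Fin 2) (Fin 2) ℤ)).comp e.toMonoidHom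
    let ρ : Representation ℂ C (Fin 2 → ℂ) :=
      (Matrix.toLinAlgEquiv' : Matrix (Fin 2) (Fin 2) ℂ ≃ₐ[ℂ] _).toAlgHom.toMonoidHom.comp M
    have hρ : ρ.character = fun y => ((Matrix.trace (d8Mat (e y)) : ℤ) : ℂ) := by
      funext y
      show LinearMap.trace ℂ _ (Matrix.toLin' (M y)) = _
      rw [LinearMap.trace_eq_matrix_trace ℂ (Pi.basisFun ℂ (Fin 2)), LinearMap.toMatrix_eq_toMatrix',
        LinearMap.toMatrix'_toLin']
      show Matrix.trace ((d8Mat (e y)).map (Int.castRingHom ℂ)) = _
      simp [Matrix.trace]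
    have h : φ = ((1 : C → ℂ) + fun y => (lam y : ℂ)) - ρ.character := by
      funext y
      rw [hρ]
      simp only [φ, d8Fun, Pi.sub_apply, Pi.add_apply, Pi.one_apply, lam, MonoidHom.comp_apply]
      push_cast
      rfl
    rw [h]
    exact Char.IsGeneralizedCharacter.sub
      (Char.IsGeneralizedCharacter.add Char.IsGeneralizedCharacter.one
        (Char.IsIrrCharacter.isGeneralizedCharacter (Char.isIrrCharacter_linear lam)))
      (Char.IsCharacter.isGeneralizedCharacter ⟨2, ρ, rfl⟩)
  have hemb : ∀ y : C, emb e (e y) = y := fun y => emb_apply e y.2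
  have hsupp : ∀ y : C, φ y ≠ 0 → (y : G) = t ∨ (y : G) * y = t := by
    intro y hy
    simp only [φ, ne_eq, Int.cast_eq_zero] at hy
    rw [← emb_two e ht, ← hemb y, ← map_mul]
    rcases d8Fun_cases _ hy with h | h
    · exact Or.inl (congrArg _ h)
    · exact Or.inr (congrArg _ h)
  set Φ := Cfsg.indFun C φ with hΦ
  have hone : ∀ g : G, orderOf g = 1 ↔ g = 1 := fun g => orderOf_eq_one_iff
  have hctrl : ∀ (y : C) (x : G) (h : x⁻¹ * y * x ∈ C), φ y ≠ 0 → φ ⟨_, h⟩ ≠ 0 → x ∈ C := by
    intro y x h hy hy'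
    have ht2 : t * t = 1 := by rw [← sq, ← ht, pow_orderOf_eq_one]
    have ht1 : t ≠ 1 := fun h1 => by rw [h1, orderOf_one] at ht; omega
    have hsq : x⁻¹ * y * x * (x⁻¹ * y * x) = x⁻¹ * (y * y) * x := by group
    have hx : x⁻¹ * t * x = t := by
      rcases hsupp y hy with h1 | h1 <;> rcases hsupp ⟨_, h⟩ hy' with h2 | h2
      · rw [← h1] at h2 ⊢; exact h2
      · exfalso
        change x⁻¹ * y * x * (x⁻¹ * y * x) = t at h2
        rw [hsq, h1, ht2] at h2
        exact ht1 (h2.symm.trans (by group))
      · exfalso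
        change x⁻¹ * y * x = t at h2
        rw [h2, ht2, h1] at hsq
        exact ht1 (conj_eq_one_iff.mp (show x⁻¹ * t * x⁻¹⁻¹ = 1 by rw [inv_inv]; exact hsq.symm))
      · change x⁻¹ * y * x * (x⁻¹ * y * x) = t at h2
        rwa [hsq, h1] at h2
    rw [hC, Subgroup.mem_centralizer_singleton_iff]
    calc x * t = x * (x⁻¹ * t * x) := by rw [hx]
      _ = t * x := by group
  have hval : ∀ y : C, φ y ≠ 0 → Φ y = φ y := by
    intro y hy
    rw [hΦ, Char.indFun_apply]
    have hterm : ∀ x : G, Cfsg.extendByZero C φ (x⁻¹ * y * x) = if x ∈ C then φ y else 0 := by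
      intro x
      split_ifs with hx
      · have h := Char.extendByZero_conj C φ (Char.IsGeneralizedCharacter.isClassFunction hgen)
          (⟨x, hx⟩⁻¹) y
        simp only [InvMemClass.coe_inv, inv_inv] at h
        rw [h, Char.extendByZero_coe]
      · by_cases hm : x⁻¹ * y * x ∈ C
        · rw [Char.extendByZero_apply_mem C φ hm]
          by_contra hne
          exact hx (hctrl y x hm hy hne)
        · exact Char.extendByZero_of_notMem C φ hm
    simp only [hterm, Finset.sum_ite, Finset.sum_const_zero, add_zero, Finset.sum_const, nsmul_eq_mul]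
    rw [show (Finset.univ.filter fun x : G => x ∈ C).card = Nat.card C by
      rw [Nat.card_eq_fintype_card, Fintype.card_subtype],
      ← mul_assoc, inv_mul_cancel₀ (Nat.cast_ne_zero.2 Nat.card_pos.ne'), one_mul]
  have hΦgen : Cfsg.IsGeneralizedCharacter G Φ := Char.IsGeneralizedCharacter.indFun C hgen
  have hΦcl := Char.IsGeneralizedCharacter.isClassFunction hΦgen
  have hn3 : Cfsg.classInner φ φ = 3 := by
    refine (classInner_comp e.toMonoidHom e.surjective (fun x => (d8Fun x : ℂ)) (fun x => (d8Fun x : ℂ))).trans ?_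
    unfold Cfsg.classInner
    simp only [map_intCast, ← Int.cast_mul, ← Int.cast_sum, CharDeep.Quat.d8Fun_sum.2, DihedralGroup.nat_card]
    norm_num
  have hn : Cfsg.classInner Φ Φ = 3 := by
    rw [hΦ, Char.classInner_indFun C φ _ hΦcl, ← hn3]
    unfold Cfsg.classInner
    congr 1
    refine Finset.sum_congr rfl fun y _ => ?_
    by_cases hy : φ y = 0
    · rw [hy, zero_mul, zero_mul]
    · show φ y * conj (Φ (y : G)) = _
      rw [hval y hy]
  have h1 : Cfsg.classInner Φ (fun _ => 1) = 1 := by
    rw [hΦ, Char.classInner_indFun C φ _ (fun _ _ => rfl)]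
    refine (classInner_comp e.toMonoidHom e.surjective (fun x => (d8Fun x : ℂ)) (fun _ => 1)).trans ?_
    unfold Cfsg.classInner
    simp only [map_one, mul_one, ← Int.cast_sum, CharDeep.Quat.d8Fun_sum.1, DihedralGroup.nat_card]
    norm_num
  have hΦ1 : Φ 1 = 0 := by
    rw [hΦ, Char.indFun_apply, Finset.sum_eq_zero, mul_zero]
    intro x _
    rw [mul_one, inv_mul_cancel, Char.extendByZero_apply_mem C φ C.one_mem]
    show (d8Fun (e 1) : ℂ) = 0
    rw [map_one, CharDeep.Quat.d8Fun_one, Int.cast_zero]
  have hΦt : Φ t = 4 := by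
    have hm : t ∈ C := Subgroup.mem_centralizer_singleton_iff.mpr rfl
    have h4 : φ ⟨t, hm⟩ = 4 := by
      show (d8Fun (e ⟨t, hm⟩) : ℂ) = 4
      rw [show e ⟨t, hm⟩ = r 2 from emb_injective e (by rw [emb_apply, emb_two e ht]),
        CharDeep.Quat.d8Fun_r_two]
      norm_num
    exact (hval ⟨t, hm⟩ (by rw [h4]; norm_num)).trans h4
  have hp : Cfsg.IsIrrCharacter G (fun _ : G => (1 : ℂ)) := Char.isIrrCharacter_principal
  have h1' : Cfsg.classInner (fun _ : G => (1 : ℂ)) (fun _ => 1) = 1 := Char.classInner_irr_self hp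
  have hθgen : Cfsg.IsGeneralizedCharacter G (Φ - fun _ : G => (1 : ℂ)) :=
    Char.IsGeneralizedCharacter.sub hΦgen Char.IsGeneralizedCharacter.one
  have hθ2 : Cfsg.classInner (Φ - fun _ => 1) (Φ - fun _ => 1) = 2 := by
    rw [Char.classInner_sub_left, Char.classInner_sub_right, Char.classInner_sub_right, hn, h1, h1',
      ← Char.classInner_conj_symm Φ (fun _ => 1), h1, map_one]
    norm_num
  obtain ⟨u, v, s, s', huv, hs, hs', hθ⟩ := exists_norm_two hθgen hθ2
  let one : Cfsg.IrrCharacter G := ⟨fun _ => 1, hp⟩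
  have hu1ne : u ≠ one ∧ v ≠ one := by
    constructor <;> intro hw <;>
      have h := congrArg (fun f => Cfsg.classInner f (fun _ : G => (1 : ℂ))) hθ
    · simp only [Char.classInner_sub_left, h1, h1', sub_self, Char.classInner_add_left,
        Char.classInner_smul_left] at h
      rw [show (u : G → ℂ) = fun _ => 1 from congrArg Subtype.val hw, h1',
        Char.classInner_irr_of_ne v.2 hp (fun hh => huv (hw.trans (Subtype.ext hh.symm)))] at h
      rcases hs with rfl | rfl <;> simp at h
    · simp only [Char.classInner_sub_left, h1, h1', sub_self, Char.classInner_add_left,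
        Char.classInner_smul_left] at h
      rw [show (v : G → ℂ) = fun _ => 1 from congrArg Subtype.val hw, h1',
        Char.classInner_irr_of_ne u.2 hp (fun hh => huv ((Subtype.ext hh).trans hw.symm))] at h
      rcases hs' with rfl | rfl <;> simp at h
  have hpt : ∀ g, Φ g = 1 + ((s : ℂ) * (u : G → ℂ) g + (s' : ℂ) * (v : G → ℂ) g) := by
    intro g
    have := congrFun hθ g
    simp only [Pi.sub_apply, Pi.add_apply, Pi.smul_apply, smul_eq_mul] at this
    rw [← this]; ring
  obtain ⟨du, hdu, hu1⟩ := Char.IsIrrCharacter.exists_degree u.2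
  obtain ⟨dv, hdv, hv1⟩ := Char.IsIrrCharacter.exists_degree v.2
  obtain ⟨A, hA⟩ := exists_int_invol u ht
  obtain ⟨B, hB⟩ := exists_int_invol v ht
  have hdeg : s * du + s' * dv = -1 := by
    have h := hpt 1
    rw [hΦ1, hu1, hv1] at h
    have h' : ((s * du + s' * dv : ℤ) : ℂ) = ((-1 : ℤ) : ℂ) := by push_cast; linear_combination -h
    exact_mod_cast h'
  have hAB : s * A + s' * B = 3 := by
    have h := hpt t
    rw [hΦt, hA, hB] at h
    have h' : ((s * A + s' * B : ℤ) : ℂ) = ((3 : ℤ) : ℂ) := by push_cast; linear_combination -h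
    exact_mod_cast h'
  have hbound : A * A + B * B ≤ 7 := by
    have hcol := Char.sum_mul_conj t t
    rw [if_pos (IsConj.refl t), ← hC, Nat.card_congr e.toEquiv, DihedralGroup.nat_card] at hcol
    have hre := congrArg Complex.re hcol
    rw [Complex.re_sum] at hre
    have hnonneg : ∀ χ ∈ (Finset.univ : Finset (Cfsg.IrrCharacter G)),
        0 ≤ ((χ : G → ℂ) t * conj ((χ : G → ℂ) t)).re := fun χ _ => by
      rw [Complex.mul_conj]; exact_mod_cast Complex.normSq_nonneg _
    have hle := Finset.sum_le_sum_of_subset_of_nonneg (Finset.subset_univ ({one, u, v} : Finset _))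
      (fun χ h _ => hnonneg χ h)
    rw [hre, Finset.sum_insert (by simp [hu1ne.1.symm, hu1ne.2.symm]), Finset.sum_pair huv, hA, hB,
      show (one : G → ℂ) t = 1 from rfl] at hle
    simp only [map_intCast, map_one, mul_one, Complex.one_re, Complex.mul_re, Complex.intCast_re,
      Complex.intCast_im, mul_zero, sub_zero] at hle
    norm_num at hle
    have : ((A * A + B * B : ℤ) : ℝ) ≤ 7 := by push_cast; linarith
    exact_mod_cast this
  -- the class multiplication formula
  set n := (Finset.univ.filter (IsConj t)).card with hn_def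
  have hTkey : ∀ χ : Cfsg.IrrCharacter G, ∑ x ∈ Finset.univ.filter (IsConj t),
      ∑ y ∈ Finset.univ.filter (IsConj t), (χ : G → ℂ) (x * y) =
      (n : ℂ) * n * ((χ : G → ℂ) t * (χ : G → ℂ) t / (χ : G → ℂ) 1) :=
    fun χ => CharDeep.ClassSum.sum_char_mul χ t t
  have hngr : n * 8 = Nat.card G := by
    rw [hn_def, ← Char.card_isConj_mul_card_centralizer t, ← hC, Nat.card_congr e.toEquiv,
      DihedralGroup.nat_card, Nat.card_eq_fintype_card (α := {x : G // IsConj t x}), Fintype.card_subtype]
  have hinv : ∀ x : G, IsConj t x ↔ orderOf x = 2 := fun x => by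
    refine ⟨fun h => ?_, fun h => (hconj x h).symm⟩
    obtain ⟨g, rfl⟩ := isConj_iff.mp h
    rw [← ht]
    exact (MulAut.conj g).orderOf_eq t
  have hdirect : ∑ x ∈ Finset.univ.filter (IsConj t), ∑ y ∈ Finset.univ.filter (IsConj t), Φ (x * y) =
      4 * (Nat.card G : ℂ) := by
    set I := Finset.univ.filter (IsConj t) with hI
    have hmov : ∀ w : G, ∑ x ∈ I, ∑ y ∈ I, Cfsg.extendByZero C φ (w⁻¹ * (x * y) * w) =
        ∑ x ∈ I, ∑ y ∈ I, Cfsg.extendByZero C φ (x * y) := by
      intro w
      have hbij : ∀ f : G → ℂ, ∑ x ∈ I, f (w⁻¹ * x * w) = ∑ x ∈ I, f x := by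
        intro f
        refine Finset.sum_equiv (MulAut.conj w⁻¹).toEquiv (fun x => ?_) (fun x _ => by simp)
        simp only [hI, Finset.mem_filter, Finset.mem_univ, true_and, hinv]
        exact ⟨fun h => by rw [← h]; exact (MulAut.conj w⁻¹).orderOf_eq x,
          fun h => by rw [← h]; exact ((MulAut.conj w⁻¹).orderOf_eq x).symm⟩
      calc ∑ x ∈ I, ∑ y ∈ I, Cfsg.extendByZero C φ (w⁻¹ * (x * y) * w)
          = ∑ x ∈ I, ∑ y ∈ I, Cfsg.extendByZero C φ ((w⁻¹ * x * w) * (w⁻¹ * y * w)) := by
            refine Finset.sum_congr rfl fun x _ => Finset.sum_congr rfl fun y _ => ?_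
            congr 1; group
        _ = ∑ x ∈ I, ∑ y ∈ I, Cfsg.extendByZero C φ ((w⁻¹ * x * w) * y) :=
            Finset.sum_congr rfl fun x _ => hbij (fun z => Cfsg.extendByZero C φ ((w⁻¹ * x * w) * z))
        _ = _ := hbij (fun z => ∑ y ∈ I, Cfsg.extendByZero C φ (z * y))
    have hloc : ∑ x ∈ I, ∑ y ∈ I, Cfsg.extendByZero C φ (x * y) = 32 := by
      have hmem : ∀ x ∈ I, ∀ y ∈ I, Cfsg.extendByZero C φ (x * y) ≠ 0 → x ∈ C ∧ y ∈ C := by
        intro x hx y hy hne
        simp only [hI, Finset.mem_filter, Finset.mem_univ, true_and, hinv] at hx hy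
        have hxx : x * x = 1 := by rw [← sq, ← hx, pow_orderOf_eq_one]
        have hyy : y * y = 1 := by rw [← sq, ← hy, pow_orderOf_eq_one]
        by_cases hm : x * y ∈ C
        · rw [Char.extendByZero_apply_mem C φ hm] at hne
          have ht2 : t * t = 1 := by rw [← sq, ← ht, pow_orderOf_eq_one]
          have key : x * t * x = t := by
            rcases hsupp _ hne with h | h <;> dsimp only at h
            · rw [← h]
              calc x * (x * y) * x = (x * x) * (y * x) := by group
                _ = y * x := by rw [hxx, one_mul]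
                _ = x * y := by
                  have : (x * y) * (x * y) = 1 := by rw [h, ht2]
                  calc y * x = (x * x) * (y * x) * (y * y) := by rw [hxx, hyy, one_mul, mul_one]
                    _ = x * ((x * y) * (x * y)) * y := by group
                    _ = x * y := by rw [this, mul_one]
            · rw [← h]
              calc x * (x * y * (x * y)) * x = (x * x) * y * x * y * x := by group
                _ = y * x * y * x := by rw [hxx, one_mul]
                _ = (x * y * (x * y))⁻¹ := by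
                  simp only [mul_inv_rev, inv_eq_of_mul_eq_one_right hxx, inv_eq_of_mul_eq_one_right hyy, mul_assoc]
                _ = x * y * (x * y) := by rw [h, inv_eq_of_mul_eq_one_right ht2]
          have hxC : x ∈ C := by
            rw [hC, Subgroup.mem_centralizer_singleton_iff]
            calc x * t = x * t * (x * x) := by rw [hxx, mul_one]
              _ = (x * t * x) * x := by group
              _ = t * x := by rw [key]
          refine ⟨hxC, ?_⟩
          have := C.mul_mem hxC hm
          rwa [← mul_assoc, hxx, one_mul] at this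
        · exact absurd (Char.extendByZero_of_notMem C φ hm) hne
      let F : DihedralGroup 4 → DihedralGroup 4 → ℂ := fun a b =>
        ((if a * a = 1 ∧ a ≠ 1 ∧ b * b = 1 ∧ b ≠ 1 then d8Fun (a * b) else 0 : ℤ) : ℂ)
      have hF : ∑ a, ∑ b, F a b = 32 := by
        simp only [F, ← Int.cast_sum, d8_pairs]; norm_num
      rw [← hF, ← Finset.sum_product', ← Finset.sum_product']
      symm
      refine Finset.sum_bij_ne_zero (fun p _ _ => (emb e p.1, emb e p.2)) ?_ ?_ ?_ ?_
      · intro p _ hp
        simp only [F, ne_eq, Int.cast_eq_zero, ite_eq_right_iff, Classical.not_imp] at hp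
        obtain ⟨⟨h1, h2, h3, h4⟩, -⟩ := hp
        simp only [hI, Finset.mem_product, Finset.mem_filter, Finset.mem_univ, true_and, hinv]
        constructor <;> rw [orderOf_injective _ (emb_injective e)] <;> apply orderOf_eq_prime
        exacts [by rw [sq]; exact h1, h2, by rw [sq]; exact h3, h4]
      · intro p _ _ q _ _ h
        rw [Prod.mk.injEq] at h
        exact Prod.ext (emb_injective e h.1) (emb_injective e h.2)
      · rintro ⟨x, y⟩ hxy hne
        rw [Finset.mem_product] at hxy
        obtain ⟨hx, hy⟩ := hmem x hxy.1 y hxy.2 hne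
        have hord : ∀ (z : G) (hz : z ∈ C), z ∈ I → e ⟨z, hz⟩ * e ⟨z, hz⟩ = 1 ∧ e ⟨z, hz⟩ ≠ 1 := by
          intro z hz hzI
          simp only [hI, Finset.mem_filter, Finset.mem_univ, true_and, hinv] at hzI
          have ho : orderOf (e ⟨z, hz⟩) = 2 := by rw [MulEquiv.orderOf_eq, ← Subgroup.orderOf_coe]; exact hzI
          refine ⟨by rw [← sq, ← ho, pow_orderOf_eq_one], fun h => ?_⟩
          rw [h, orderOf_one] at ho
          omega
        refine ⟨(e ⟨x, hx⟩, e ⟨y, hy⟩), Finset.mem_product.mpr ⟨Finset.mem_univ _, Finset.mem_univ _⟩, ?_, ?_⟩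
        · simp only [F]
          rw [if_pos ⟨(hord x hx hxy.1).1, (hord x hx hxy.1).2, (hord y hy hxy.2).1, (hord y hy hxy.2).2⟩]
          rw [Char.extendByZero_apply_mem C φ (C.mul_mem hx hy)] at hne
          rw [← map_mul]
          exact hne
        · exact Prod.ext (emb_apply e hx) (emb_apply e hy)
      · intro p _ hp
        simp only [F] at hp ⊢
        simp only [ne_eq, Int.cast_eq_zero, ite_eq_right_iff, Classical.not_imp] at hp
        rw [if_pos hp.1, ← map_mul, Char.extendByZero_apply_mem C φ (emb_mem e _)]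
        show _ = (d8Fun (e (e.symm (p.1 * p.2))) : ℂ)
        rw [e.apply_symm_apply]
    simp only [hΦ, Char.indFun_apply, ← Finset.mul_sum]
    rw [Finset.sum_congr rfl fun x _ => Finset.sum_comm, Finset.sum_comm, Finset.sum_congr rfl fun w _ => hmov w,
      Finset.sum_const, hloc, nsmul_eq_mul, Finset.card_univ, ← Nat.card_eq_fintype_card,
      Nat.card_congr e.toEquiv, DihedralGroup.nat_card]
    push_cast; ring
  simp only [hpt, Finset.sum_add_distrib, ← Finset.mul_sum, hTkey, Finset.sum_const, nsmul_eq_mul,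
    mul_one, ← hn_def, hA, hB, hu1, hv1] at hdirect
  have hn0 : (n : ℂ) ≠ 0 := by
    rw [Nat.cast_ne_zero, hn_def, Finset.card_ne_zero]
    exact ⟨t, Finset.mem_filter.mpr ⟨Finset.mem_univ _, IsConj.refl t⟩⟩
  have hduC : (du : ℂ) ≠ 0 := by rw [← hu1]; exact Char.IsIrrCharacter.apply_one_ne_zero u.2
  have hdvC : (dv : ℂ) ≠ 0 := by rw [← hv1]; exact Char.IsIrrCharacter.apply_one_ne_zero v.2
  have heqZ : (n : ℤ) * (du * dv + s * A * A * dv + s' * B * B * du) = 32 * du * dv := by
    have hgr : (Nat.card G : ℂ) = n * 8 := by rw [← hngr]; push_cast; ring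
    rw [hgr] at hdirect
    field_simp at hdirect
    have h' : (((n : ℤ) * (du * dv + s * A * A * dv + s' * B * B * du) : ℤ) : ℂ) = ((32 * du * dv : ℤ) : ℂ) := by
      push_cast
      linear_combination hdirect
    exact_mod_cast h'
  have hnodd : Odd n := by
    have h := index_odd e ht
    rwa [Char.index_centralizer_eq_card_isConj, Nat.card_eq_fintype_card, Fintype.card_subtype, ← hn_def] at h
  have hdu' : 1 ≤ du := hdu
  have hdv' : 1 ≤ dv := hdv
  have hsA : A * A = (s * A) * (s * A) := by rcases hs with rfl | rfl <;> ring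
  have hsB : B * B = (s' * B) * (s' * B) := by rcases hs' with rfl | rfl <;> ring
  have hcases : (s * A = 1 ∧ s' * B = 2) ∨ (s * A = 2 ∧ s' * B = 1) := by
    generalize s * A = X at *
    generalize s' * B = Y at *
    rw [hsA, hsB] at hbound
    have : Y = 3 - X := by omega
    subst this
    have : 0 ≤ X ∧ X ≤ 3 := ⟨by nlinarith, by nlinarith⟩
    obtain ⟨h0, h3⟩ := this
    interval_cases X <;> omega
  rw [mul_assoc s A A, mul_assoc s' B B, hsA, hsB] at heqZ
  suffices n = 21 ∨ n = 45 by omega
  rcases hcases with ⟨hX, hY⟩ | ⟨hX, hY⟩ <;> rw [hX, hY] at heqZ <;>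
    rcases hs with rfl | rfl <;> rcases hs' with rfl | rfl
  · omega
  · refine Or.inr (arith_aux' n dv hnodd (by omega) ?_)
    have hdd : (du : ℤ) = dv - 1 := by omega
    rw [hdd] at heqZ
    linear_combination heqZ
  · refine Or.inl (arith_aux n dv hnodd hdv' ?_)
    have : du = dv + 1 := by omega
    subst this
    push_cast at heqZ
    zify
    linear_combination heqZ
  · omega
  · omega
  · refine Or.inl (arith_aux n du hnodd hdu' ?_)
    have : dv = du + 1 := by omega
    subst this
    push_cast at heqZ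
    zify
    linear_combination heqZ
  · refine Or.inr (arith_aux' n du hnodd (by omega) ?_)
    have hdd : (dv : ℤ) = du - 1 := by omega
    rw [hdd] at heqZ
    linear_combination heqZ
  · omega

end CfsgLib.DihedralEight
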